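import Mathlib.GroupTheory.Sylow
import Mathlib.Algebra.Group.Subgroup.Pointwise
import Mathlib.Tactic.Group
set_option linter.all false

/-!
# Case NOFF: the parabolics moving `Z` generate a 2-local subgroup

Abstract form. `S`, `Z` are subgroups of `G`, `F` is a set of subgroups containing `S`.
Chambers are elements `g` of `G` (standing for `g S g⁻¹`), `V P = ⟨Z^P⟩`.
-/

set_option autoImplicit false

namespace Cfsg.Agent.Omega.NoFF.Basic

open Subgroup
open scoped Pointwise

variable {G : Type*} [Group G]

/-- `⟨Z^P⟩` -/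
def V (Z P : Subgroup G) : Subgroup G := ⨆ p : P, MulAut.conj (p : G) • Z

/-- The hypotheses: `S ≤ P` for `P ∈ F`, `Z` central in `S`, `⟨Z^P⟩` abelian, `C_S(⟨Z^P⟩)` is
contained in all `P`-conjugates of `S`, and there is no mutual noncommuting pair. -/
structure Sys (S Z : Subgroup G) (F : Set (Subgroup G)) : Prop where
  ZS : Z ≤ S
  cent : S ≤ centralizer (Z : Set G)
  SP : ∀ P ∈ F, S ≤ P
  abel : ∀ P ∈ F, V Z P ≤ centralizer (V Z P : Set G)
  core : ∀ P ∈ F, ∀ p ∈ P, ∀ x ∈ S, x ∈ centralizer (V Z P : Set G) → x ∈ MulAut.conj p • S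
  noff : ∀ P ∈ F, ∀ P' ∈ F, ∀ g : G, V Z P ≤ MulAut.conj g • P' → MulAut.conj g • V Z P' ≤ P →
    V Z P ≤ centralizer ((MulAut.conj g • V Z P' : Subgroup G) : Set G)

theorem conj_conj (g h : G) (H : Subgroup G) : MulAut.conj g • (MulAut.conj h • H) = MulAut.conj (g * h) • H := by
  rw [map_mul, mul_smul]

theorem conj_self {P : Subgroup G} {p : G} (hp : p ∈ P) : MulAut.conj p • P = P :=
  Subgroup.conj_smul_eq_self_of_mem hp

theorem mem_conj {g x : G} {H : Subgroup G} : x ∈ MulAut.conj g • H ↔ g⁻¹ * x * g ∈ H := by
  rw [Subgroup.mem_pointwise_smul_iff_inv_smul_mem, ← map_inv, MulAut.smul_def, MulAut.conj_apply, inv_inv]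

theorem conj_le_iff {g : G} {A B : Subgroup G} : MulAut.conj g • A ≤ MulAut.conj g • B ↔ A ≤ B :=
  Subgroup.pointwise_smul_le_pointwise_smul_iff

theorem conj_le {g h : G} {A B : Subgroup G} (H : MulAut.conj g • A ≤ MulAut.conj h • B) (x : G) :
    MulAut.conj (x * g) • A ≤ MulAut.conj (x * h) • B := by
  rw [← conj_conj, ← conj_conj]
  exact conj_le_iff.2 H

theorem conj_le_centralizer {g : G} {A B : Subgroup G} (h : A ≤ centralizer (B : Set G)) :
    MulAut.conj g • A ≤ centralizer ((MulAut.conj g • B : Subgroup G) : Set G) := by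
  intro a ha
  rw [mem_conj] at ha
  rw [mem_centralizer_iff]
  intro b hb
  have hb' : b ∈ MulAut.conj g • B := hb
  rw [mem_conj] at hb'
  have h1 := (mem_centralizer_iff.1 (h ha)) _ hb'
  have h2 := congrArg (fun t => g * t * g⁻¹) h1
  simpa [mul_assoc] using h2

theorem comm_symm {A B : Subgroup G} (h : A ≤ centralizer (B : Set G)) : B ≤ centralizer (A : Set G) :=
  Subgroup.le_centralizer_iff.1 h

theorem comm_mono {A B A' B' : Subgroup G} (h : A ≤ centralizer (B : Set G)) (hA : A' ≤ A) (hB : B' ≤ B) :
    A' ≤ centralizer (B' : Set G) :=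
  (hA.trans h).trans (centralizer_le hB)

section

variable {S Z : Subgroup G} {F : Set (Subgroup G)}

theorem Z_le_V {P : Subgroup G} {p : G} (hp : p ∈ P) : MulAut.conj p • Z ≤ V Z P :=
  le_iSup (fun p : P => MulAut.conj (p : G) • Z) ⟨p, hp⟩

theorem V_le {P A : Subgroup G} (h : ∀ p ∈ P, MulAut.conj p • Z ≤ A) : V Z P ≤ A :=
  iSup_le fun p => h p p.2

theorem conj_Z_le {P : Subgroup G} {g p : G} (hp : p ∈ P) : MulAut.conj (g * p) • Z ≤ MulAut.conj g • V Z P := by
  rw [← conj_conj]
  exact conj_le_iff.2 (Z_le_V hp)

theorem conj_V_le {P A : Subgroup G} {g : G} (h : ∀ p ∈ P, MulAut.conj (g * p) • Z ≤ A) : MulAut.conj g • V Z P ≤ A := by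
  rw [Subgroup.pointwise_smul_subset_iff]
  refine V_le fun p hp => ?_
  rw [← Subgroup.pointwise_smul_subset_iff, conj_conj]
  exact h p hp

theorem conj_V_mul {P : Subgroup G} {g p : G} (hp : p ∈ P) : MulAut.conj (g * p) • V Z P = MulAut.conj g • V Z P := by
  apply le_antisymm
  · refine conj_V_le fun p' hp' => ?_
    rw [mul_assoc]
    exact conj_Z_le (P.mul_mem hp hp')
  · refine conj_V_le fun p' hp' => ?_
    have := conj_Z_le (Z := Z) (P := P) (g := g * p) (P.mul_mem (P.inv_mem hp) hp')
    rwa [mul_assoc, mul_inv_cancel_left] at this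

namespace Sys

variable (D : Sys S Z F)
include D

theorem conjV_le {P : Subgroup G} (hP : P ∈ F) : V Z P ≤ P :=
  V_le fun p hp => by
    have : MulAut.conj p • Z ≤ MulAut.conj p • P := conj_le_iff.2 (D.ZS.trans (D.SP P hP))
    rwa [conj_self hp] at this

/-- `noff` for two conjugates -/
theorem noff' {P P' : Subgroup G} (hP : P ∈ F) (hP' : P' ∈ F) {g h : G}
    (h1 : MulAut.conj g • V Z P ≤ MulAut.conj h • P') (h2 : MulAut.conj h • V Z P' ≤ MulAut.conj g • P) :
    MulAut.conj g • V Z P ≤ centralizer ((MulAut.conj h • V Z P' : Subgroup G) : Set G) := by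
  have h3 := D.noff P hP P' hP' (g⁻¹ * h) (by
    have := conj_le h1 g⁻¹
    rwa [inv_mul_cancel, map_one, one_smul] at this) (by
    have := conj_le h2 g⁻¹
    rwa [inv_mul_cancel, map_one, one_smul] at this)
  have h4 := conj_le_centralizer (g := g) h3
  rwa [conj_conj, mul_inv_cancel_left] at h4

/-- passing a panel -/
theorem pass {P : Subgroup G} (hP : P ∈ F) {g p : G} (hp : p ∈ P) {A : Subgroup G} (hA : A ≤ MulAut.conj g • S)
    (hc : ∀ p' ∈ P, A ≤ centralizer ((MulAut.conj (g * p') • Z : Subgroup G) : Set G)) : A ≤ MulAut.conj (g * p) • S := by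
  have h1 : MulAut.conj g • V Z P ≤ centralizer (A : Set G) := conj_V_le fun p' hp' => comm_symm (hc p' hp')
  have h2 := comm_symm h1
  intro a ha
  rw [← conj_conj, mem_conj]
  have h3 := hA ha
  rw [mem_conj] at h3
  refine D.core P hP p hp _ h3 ?_
  rw [mem_centralizer_iff]
  intro b hb
  have h4 := (mem_centralizer_iff.1 (h2 ha)) (g * b * g⁻¹) (by
    change _ ∈ MulAut.conj g • V Z P
    rw [mem_conj]
    simpa [mul_assoc] using hb)
  have h5 := congrArg (fun t => g⁻¹ * t * g) h4
  simpa [mul_assoc] using h5

end Sys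

/-- galleries -/
inductive Gal (F : Set (Subgroup G)) : ℕ → G → G → Prop
  | zero (g : G) : Gal F 0 g g
  | step {k : ℕ} {g h p : G} {P : Subgroup G} (hg : Gal F k g h) (hP : P ∈ F) (hp : p ∈ P) : Gal F (k + 1) g (h * p)

namespace Gal

theorem mul_left {k : ℕ} {g h : G} (x : G) (H : Gal F k g h) : Gal F k (x * g) (x * h) := by
  induction H with
  | zero => exact zero _
  | step _ hP hp ih => rw [← mul_assoc]; exact ih.step hP hp

theorem one {P : Subgroup G} (hP : P ∈ F) {g p : G} (hp : p ∈ P) : Gal F 1 g (g * p) := (zero g).step hP hp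

theorem trans {k l : ℕ} {a b c : G} (H : Gal F k a b) (H' : Gal F l b c) : Gal F (k + l) a c := by
  induction H' with
  | zero => exact H
  | step _ hP hp ih => exact (ih H).step hP hp

theorem symm {k : ℕ} {a b : G} (H : Gal F k a b) : Gal F k b a := by
  induction H with
  | zero => exact zero _
  | @step k g h p P _ hP hp ih =>
    have h1 : Gal F 1 (h * p) h := by
      have := one hP (g := h * p) (P.inv_mem hp)
      rwa [mul_inv_cancel_right] at this
    rw [add_comm]
    exact h1.trans ih

end Gal

namespace Sys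

variable (D : Sys S Z F)
include D

/-- **(3), galleries.** If `V_x`, `V_y` (generated by the `Z` of all chambers reachable by galleries) are
mutually contained in the chambers `y`, `x`, they commute. -/
theorem comm_of_gal {x y : G} (hx : ∀ i a, Gal F i x a → MulAut.conj a • Z ≤ MulAut.conj y • S)
    (hy : ∀ j b, Gal F j y b → MulAut.conj b • Z ≤ MulAut.conj x • S) (n : ℕ) :
    ∀ i j, i + j = n → ∀ a b, Gal F i x a → Gal F j y b →
      MulAut.conj a • Z ≤ centralizer ((MulAut.conj b • Z : Subgroup G) : Set G) := by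
  induction n using Nat.strong_induction_on with
  | _ n ih =>
    intro i j hij a b ha hb
    have hS : ∀ c : G, MulAut.conj c • S ≤ centralizer ((MulAut.conj c • Z : Subgroup G) : Set G) :=
      fun c => conj_le_centralizer D.cent
    cases ha with
    | zero => exact comm_symm ((hy j b hb).trans (hS _))
    | @step i _ a' p P ha' hP hp =>
      cases hb with
      | zero => exact (hx _ _ (ha'.step hP hp)).trans (hS _)
      | @step j _ b' p' P' hb' hP' hp' =>
        -- walking along the second gallery
        have w1 : ∀ i' a'', i' ≤ i + 1 → Gal F i' x a'' → ∀ j' b'', j' ≤ j → Gal F j' y b'' →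
            MulAut.conj a'' • Z ≤ MulAut.conj b'' • S := by
          intro i' a'' hi' ha'' j'
          induction j' with
          | zero =>
            intro b'' _ hb''
            cases hb''
            exact hx _ _ ha''
          | succ j' ihj =>
            intro b'' hj' hb''
            cases hb'' with
            | @step _ _ c q Q hc hQ hq =>
              refine D.pass hQ hq (ihj c (by omega) hc) fun q' hq' => ?_
              exact ih (i' + (j' + 1)) (by omega) i' (j' + 1) rfl _ _ ha'' (hc.step hQ hq')
        have w2 : ∀ j' b'', j' ≤ j + 1 → Gal F j' y b'' → ∀ i' a'', i' ≤ i → Gal F i' x a'' →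
            MulAut.conj b'' • Z ≤ MulAut.conj a'' • S := by
          intro j' b'' hj' hb'' i'
          induction i' with
          | zero =>
            intro a'' _ ha''
            cases ha''
            exact hy _ _ hb''
          | succ i' ihi =>
            intro a'' hi' ha''
            cases ha'' with
            | @step _ _ c q Q hc hQ hq =>
              refine D.pass hQ hq (ihi c (by omega) hc) fun q' hq' => ?_
              exact comm_symm (ih ((i' + 1) + j') (by omega) (i' + 1) j' rfl _ _ (hc.step hQ hq') hb'')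
        have h1 : MulAut.conj a' • V Z P ≤ MulAut.conj b' • P' :=
          (conj_V_le fun q hq => w1 (i + 1) _ le_rfl (ha'.step hP hq) j b' le_rfl hb').trans
            (conj_le_iff.2 (D.SP P' hP'))
        have h2 : MulAut.conj b' • V Z P' ≤ MulAut.conj a' • P :=
          (conj_V_le fun q hq => w2 (j + 1) _ le_rfl (hb'.step hP' hq) i a' le_rfl ha').trans
            (conj_le_iff.2 (D.SP P hP))
        exact comm_mono (D.noff' hP hP' h1 h2) (conj_Z_le hp) (conj_Z_le hp')

/-- **(1), galleries.** `Z` commutes with all `Z^x` reachable by galleries with panels from `F`. -/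
theorem comm_gal (n : ℕ) : ∀ a b, Gal F n a b →
    MulAut.conj a • Z ≤ centralizer ((MulAut.conj b • Z : Subgroup G) : Set G) := by
  induction n using Nat.strong_induction_on with
  | _ n ih =>
    intro a b hab
    have hself : ∀ c : G, MulAut.conj c • Z ≤ centralizer ((MulAut.conj c • Z : Subgroup G) : Set G) :=
      fun c => conj_le_centralizer (D.ZS.trans D.cent)
    -- walking
    have w : ∀ m, m < n → ∀ c d, Gal F m c d → MulAut.conj c • Z ≤ MulAut.conj d • S := by
      intro m
      induction m with
      | zero =>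
        intro _ c d h
        cases h
        exact conj_le_iff.2 D.ZS
      | succ m ihm =>
        intro hm c d h
        cases h with
        | @step _ _ e q Q he hQ hq =>
          exact D.pass hQ hq (ihm (by omega) c e he) fun q' hq' => ih (m + 1) hm _ _ (he.step hQ hq')
    cases hab with
    | zero => exact hself _
    | @step m _ b' p P hb' hP hp =>
      -- first step
      have hb'' := hb'.symm
      cases hb'' with
      | zero =>
        have h1 := conj_le_centralizer (g := a) (D.abel P hP)
        have h2 := conj_Z_le (Z := Z) (P := P) (g := a) P.one_mem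
        rw [mul_one] at h2
        exact comm_mono h1 h2 (conj_Z_le hp)
      | @step m _ a' r R ha' hR hr =>
        -- gallery: a = a' * r, a', ..., b', b' * p
        have h1 : MulAut.conj a' • V Z R ≤ MulAut.conj b' • P := by
          refine (conj_V_le fun q hq => w (m + 1) (by omega) _ _ (ha'.step hR hq).symm).trans
            (conj_le_iff.2 (D.SP P hP))
        have h2 : MulAut.conj b' • V Z P ≤ MulAut.conj a' • R := by
          refine (conj_V_le fun q hq => w (m + 1) (by omega) _ _ (ha'.symm.step hP hq).symm).trans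
            (conj_le_iff.2 (D.SP R hR))
        exact comm_mono (D.noff' hR hP h1 h2) (conj_Z_le hr) (conj_Z_le hp)

end Sys

end

end Cfsg.Agent.Omega.NoFF.Basic
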